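import Cfsg.Agent.SchurG.A8.Pres

set_option autoImplicit false
set_option maxRecDepth 100000

namespace Cfsg.Agent.SchurG.A8
open Cfsg.Agent.Comp

noncomputable def n0 : Net :=
(Net.cons (nat_lit 0x30040) (nat_lit 7)
(Net.cons (nat_lit 0x201) (nat_lit 4)
(Net.cons (nat_lit 0x400002) (nat_lit 2)
(Net.cons (nat_lit 0x2850201) (nat_lit 1)
(Net.cons (nat_lit 0x2600083) (nat_lit 2)
(Net.cons (nat_lit 0x8201) (nat_lit 4)
(Net.cons (nat_lit 0x10040) (nat_lit 7)
Net.nil)))))))

noncomputable def n1 : Net :=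
(Net.cons (nat_lit 0x10040) (nat_lit 7)
(Net.cons (nat_lit 0x8201) (nat_lit 4)
(Net.cons (nat_lit 0x2000100) (nat_lit 2)
(Net.cons (nat_lit 0x2250084) (nat_lit 1)
(Net.cons (nat_lit 0x200181) (nat_lit 2)
(Net.cons (nat_lit 0x201) (nat_lit 4)
(Net.cons (nat_lit 0x30040) (nat_lit 7)
Net.nil)))))))

noncomputable def n2 : Net :=
(Net.cons (nat_lit 0x40) (nat_lit 7)
(Net.cons (nat_lit 0x618085) (nat_lit 4)
(Net.cons (nat_lit 0x8012) (nat_lit 2)
(Net.cons (nat_lit 0x2a50211) (nat_lit 1)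
(Net.cons (nat_lit 0x64c812) (nat_lit 2)
(Net.cons (nat_lit 0x604085) (nat_lit 4)
(Net.cons (nat_lit 0x40) (nat_lit 7)
Net.nil)))))))

noncomputable def n3 : Net :=
(Net.cons (nat_lit 0x2000) (nat_lit 14)
(Net.cons (nat_lit 0x1c0060) (nat_lit 7)
(Net.cons (nat_lit 0x610001) (nat_lit 4)
(Net.cons (nat_lit 0x2) (nat_lit 2)
(Net.cons (nat_lit 0x2a40001) (nat_lit 1)
(Net.cons (nat_lit 0x60c882) (nat_lit 2)
(Net.cons (nat_lit 0x610381) (nat_lit 4)
(Net.cons (nat_lit 0x1c0060) (nat_lit 7)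
(Net.cons (nat_lit 0x2000) (nat_lit 14)
Net.nil)))))))))

noncomputable def n4 : Net :=
(Net.cons (nat_lit 0x2000) (nat_lit 14)
(Net.cons (nat_lit 0x100016) (nat_lit 7)
(Net.cons (nat_lit 0x10305) (nat_lit 4)
(Net.cons (nat_lit 0x810) (nat_lit 2)
(Net.cons (nat_lit 0x14815) (nat_lit 1)
(Net.cons (nat_lit 0xc910) (nat_lit 2)
(Net.cons (nat_lit 0x610385) (nat_lit 4)
(Net.cons (nat_lit 0x100016) (nat_lit 7)
(Net.cons (nat_lit 0x2000) (nat_lit 14)
Net.nil)))))))))

noncomputable def n5 : Net :=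
(Net.cons (nat_lit 0x34c4) (nat_lit 14)
(Net.cons (nat_lit 0x180070) (nat_lit 7)
(Net.cons (nat_lit 0x800280) (nat_lit 4)
(Net.cons (nat_lit 0x10) (nat_lit 2)
(Net.cons (nat_lit 0x844290) (nat_lit 1)
(Net.cons (nat_lit 0x991) (nat_lit 2)
(Net.cons (nat_lit 0x80c280) (nat_lit 4)
(Net.cons (nat_lit 0x190075) (nat_lit 7)
(Net.cons (nat_lit 0x34cc) (nat_lit 14)
Net.nil)))))))))

noncomputable def T : List Net := [n0, n1, n2, n3, n4, n5]

theorem ok : TOK 28 T := TOK_of_ok (by decide +kernel)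

def E : List (List Nat × List Nat) :=
  []

theorem sat : Sat (sig T) R :=
  sat_of_relsP ok (by norm_num) (show relsP (nat_lit 28) (nat_lit 5) (nat_lit 0) (nat_lit 5) T R = true by decide +kernel)

theorem eqs : ∀ e ∈ E, ev (sig T) e.1 = ev (sig T) e.2 := eqs_nil _

def lowW1 : List (List Nat) := [[0],
   [1],
   [2],
   [3],
   [4]]

def lowW2 : List (List Nat) := [[0],
   [1],
   [2],
   [3]]

def lowW3 : List (List Nat) := [[0],
   [1],
   [2]]

def lowW4 : List (List Nat) := [[0],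
   [1]]

theorem low_4 : 3 ≤ Nat.card (genW (sig T) lowW4) :=
  chain_step (W' := []) (b := 23) (n := 3) (m := 1) ok (le_of_subOK eqs (show subOK lowW4 [] E = true by decide +kernel)) (by decide +kernel)
    (le_ncard_of_orbGe ok (by norm_num) (show orbGe (nat_lit 28) (nat_lit 5) T lowW4 [0, 0] (nat_lit 23) (nat_lit 3) = true by decide +kernel))
    (chain_base ok [])

theorem low_3 : 12 ≤ Nat.card (genW (sig T) lowW3) :=
  chain_step (W' := lowW4) (b := 20) (n := 4) (m := 3) ok (le_of_subOK eqs (show subOK lowW3 lowW4 E = true by decide +kernel)) (by decide +kernel)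
    (le_ncard_of_orbGe ok (by norm_num) (show orbGe (nat_lit 28) (nat_lit 5) T lowW3 [2, 0, 0] (nat_lit 20) (nat_lit 4) = true by decide +kernel))
    low_4

theorem low_2 : 60 ≤ Nat.card (genW (sig T) lowW2) :=
  chain_step (W' := lowW3) (b := 13) (n := 5) (m := 12) ok (le_of_subOK eqs (show subOK lowW2 lowW3 E = true by decide +kernel)) (by decide +kernel)
    (le_ncard_of_orbGe ok (by norm_num) (show orbGe (nat_lit 28) (nat_lit 5) T lowW2 [3, 2, 0, 0] (nat_lit 13) (nat_lit 5) = true by decide +kernel))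
    low_3

theorem low_1 : 720 ≤ Nat.card (genW (sig T) lowW1) :=
  chain_step (W' := lowW2) (b := 1) (n := 12) (m := 60) ok (le_of_subOK eqs (show subOK lowW1 lowW2 E = true by decide +kernel)) (by decide +kernel)
    (le_ncard_of_ivl (a := 1) ok (by norm_num) (show Nat.beq (grow T lowW1 [4, 0, 2, 4, 3, 0, 4] (pt (nat_lit 1))) (ivl (nat_lit 1) (nat_lit 12)) = true by decide +kernel))
    low_2

theorem low : 20160 ≤ Nat.card (genW (sig T) (letters 6)) :=
  chain_step (W' := lowW1) (b := 0) (n := 28) (m := 720) ok (le_of_subOK eqs (show subOK (letters 6) lowW1 E = true by decide +kernel)) (by decide +kernel)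
    (le_ncard_of_ivl (a := 0) ok (by norm_num) (show Nat.beq (grow T (letters 6) [5, 2, 4, 3, 5, 2, 4, 5, 2, 0] (pt (nat_lit 0))) (ivl (nat_lit 0) (nat_lit 28)) = true by decide +kernel))
    low_1


end Cfsg.Agent.SchurG.A8
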