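import Cfsg.Agent.SchurG.A8.Up
import Cfsg.Agent.SchurG.A8.Nets

set_option autoImplicit false
set_option maxRecDepth 100000

namespace Cfsg.Agent.SchurG.A8
open Cfsg.Agent.Comp

def W0 : List (List Nat) := [[0],
[1],
[2],
[3],
[4]]

noncomputable def phi : G →* Equiv.Perm ℕ := (pres.rep ok sat).choose

theorem rep : Rep s 6 28 T phi := (pres.rep ok sat).choose_spec

theorem trans : ∀ i < 28, ∃ g, phi g 0 = i :=
  rep.trans (sch := [5, 2, 4, 3, 5, 2, 4, 5, 2, 0]) (by decide +kernel)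

theorem stab : (genW s W0).index = 28 ∧ ∀ g, g ∈ genW s W0 ↔ phi g 0 = 0 :=
  rep.stab_eq (by decide +kernel) (by norm_num) trans (by decide +kernel) (Top.index _ s pres.sat)

theorem orb1 : MulAction.orbit (genW (sig T) W0) 1 = Set.Ico 1 (1 + 12) ∧
    (MulAction.orbit (genW (sig T) W0) 1).ncard = 12 :=
  orbit_ivl (sch := [4, 0, 2, 4, 3, 0, 4]) ok (by norm_num) (by norm_num) (by decide +kernel) (by decide +kernel)

theorem orb13 : MulAction.orbit (genW (sig T) W0) 13 = Set.Ico 13 (13 + 15) ∧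
    (MulAction.orbit (genW (sig T) W0) 13).ncard = 15 :=
  orbit_ivl (sch := [3, 4, 0, 2, 0, 0]) ok (by norm_num) (by norm_num) (by decide +kernel) (by decide +kernel)

namespace Col

noncomputable def t0 : Tr := (Tr.leaf (nat_lit 0xfffffffffffffffffffff000fffffffffffffffffffff000fffffffffffffffffffff000fffffffffffffffffffff854fffffffff09bffffff23b8b1fff011fffffffffffffff8910d0fff011ffffffffffff8711d4fffffffffffffff03485105103903afff0110b9fff4b0075010ffffff035ffffff4900f1090010fff095ffffff47025021b1f401001bfff1f4450050035036fff010ffffff430190152132fff1720310104101b0110110018fff010fff000fff1f01d02700701d01f0))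

noncomputable def T : Tr := t0

def RT : List (List (List Nat)) := [
  [[nat_lit 3, nat_lit 1, nat_lit 3],
   [nat_lit 0],
   [nat_lit 5, nat_lit 2, nat_lit 5, nat_lit 0, nat_lit 2, nat_lit 5, nat_lit 0, nat_lit 2]],
  [[nat_lit 2, nat_lit 1, nat_lit 5, nat_lit 2, nat_lit 5, nat_lit 0, nat_lit 2, nat_lit 5],
   [nat_lit 0, nat_lit 0],
   [nat_lit 1]],
  [[nat_lit 2],
   [nat_lit 5, nat_lit 4]],
  [[nat_lit 2, nat_lit 3, nat_lit 2, nat_lit 3, nat_lit 2],
   [nat_lit 3]],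
  [[nat_lit 2, nat_lit 5],
   [nat_lit 4],
   [nat_lit 0, nat_lit 5, nat_lit 4, nat_lit 0, nat_lit 4, nat_lit 5, nat_lit 4, nat_lit 1],
   [nat_lit 3, nat_lit 4, nat_lit 3]],
  [[nat_lit 2, nat_lit 4],
   [nat_lit 5],
   [nat_lit 4, nat_lit 1, nat_lit 4, nat_lit 5, nat_lit 1, nat_lit 4, nat_lit 0, nat_lit 4],
   [nat_lit 4, nat_lit 2]],
  [[nat_lit 4, nat_lit 5, nat_lit 4, nat_lit 5, nat_lit 4, nat_lit 5],
   [nat_lit 4, nat_lit 4],
   [nat_lit 0, nat_lit 1],
   [nat_lit 5, nat_lit 0, nat_lit 2, nat_lit 1, nat_lit 5, nat_lit 2, nat_lit 1, nat_lit 5, nat_lit 2],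
   [nat_lit 1, nat_lit 0],
   [nat_lit 3, nat_lit 3],
   [nat_lit 2, nat_lit 1, nat_lit 5, nat_lit 2, nat_lit 3, nat_lit 2, nat_lit 5, nat_lit 0, nat_lit 2, nat_lit 3]]]

def HT : List (List (Nat × Nat × Nat)) := [
  [(1, 9, 0), (0, 1, 0), (1, 18, 0)],
  [(1, 18, 7), (0, 7, 0), (0, 1, 1)],
  [(0, 3, 0), (1, 0, 0)],
  [(0, 10, 0), (0, 4, 0)],
  [(1, 0, 2), (0, 5, 0), (0, 19, 6), (0, 11, 0)],
  [(0, 0, 0), (0, 6, 0), (1, 19, 7), (1, 0, 1)],
  [(0, 17, 0), (0, 5, 0), (0, 1, 0), (0, 18, 8), (0, 1, 1), (0, 4, 0), (0, 20, 3)]]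

def R : List (List Nat) :=
  [[2, 4, 5],
   [0, 1],
   [1, 0],
   [2, 2],
   [3, 3],
   [4, 4],
   [5, 5],
   [0, 0, 0],
   [0, 2, 0, 2, 0, 2],
   [0, 3, 0, 3],
   [2, 3, 2, 3, 2, 3],
   [3, 4, 3, 4],
   [0, 2, 0, 4, 1, 2, 1, 4],
   [0, 4, 0, 4, 0, 4, 0, 4],
   [0, 4, 2, 4, 0, 4, 2, 4],
   [0, 5, 0, 5],
   [3, 5, 3, 5, 3, 5],
   [4, 5, 4, 5, 4, 5],
   [0, 2, 1, 5, 2, 1, 5, 2, 5],
   [0, 4, 5, 4, 1, 4, 0, 5, 4],
   [0, 2, 3, 2, 1, 5, 2, 3, 2, 5]]

def W : List (List Nat) := []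

noncomputable def P : Par := ⟨T, (nat_lit 4), (nat_lit 15), (nat_lit 96), (nat_lit 12), (nat_lit 4095), (nat_lit 5), (nat_lit 31), (nat_lit 6), (nat_lit 17), (nat_lit 32), (nat_lit 0x398a418801), RT⟩

noncomputable def J0 : List Nat := [
  nat_lit 0x11c008b127801062530021c48e004389020c20a2570021c4ae0043892c0034c618c0010e260ca231188c0041624a8c4600020b100250001278820c20da000831ac00106213ab0003062630021c41461a4000678a94829052dc0053620825b0020c4184b60043899c0031c4106b000438820c3599c00638825e8c158002031841d4001063980020c42f6600060c6911800c3104104106931800d710410418411bc006588208208308214829148020b1041290520050c41041041041041041041041041041041041041041041041]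

theorem c0 : chk T (nat_lit 4) (nat_lit 15) (nat_lit 96) (nat_lit 12) (nat_lit 4095) (nat_lit 5) (nat_lit 31) (nat_lit 6) (nat_lit 17) (nat_lit 32) (nat_lit 0x398a418801) (nat_lit 4) (nat_lit 15) RT (nat_lit 16) J0 (nat_lit 16) = true := by
  decide +kernel

theorem r0 : P.RowsOK 16 32 := chk_sound P _ _ _ J0 _ _ (by decide +kernel) c0

theorem index.{u} : IndexLe.{u} 6 R W 1 :=
  indexLe_of_cert P HT (by decide +kernel)
    (show P.RowsOK 16 32 from r0)

end Col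

theorem card : Finite G ∧ Nat.card G = 20160 ∧ Function.Injective phi :=
  rep.card_eq up low

def primT : List (List Nat × List Nat) :=
  [([5], [0, 3, 5, 0, 4, 5, 0, 3, 1, 0, 5]),
   ([5, 2, 4, 5], [0, 3, 1, 4, 5, 1, 3, 0, 3, 5])]

theorem prim_0 : Nat.beq (grow T ([5] :: W0) [0, 3, 5, 0, 4, 5, 0, 3, 1, 0, 5] (pt (nat_lit 0))) (ivl (nat_lit 0) (nat_lit 28)) = true := by
  decide +kernel

theorem prim_1 : Nat.beq (grow T ([5, 2, 4, 5] :: W0) [0, 3, 1, 4, 5, 1, 3, 0, 3, 5] (pt (nat_lit 0))) (ivl (nat_lit 0) (nat_lit 28)) = true := by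
  decide +kernel

theorem prim : Prim (gen (sig T) 6) 0 :=
  prim_of_cert (W := W0) (ts := primT) (sch := [2, 4, 3, 0, 2, 4, 0]) ok (ok.genW_le _) (by norm_num) (genW_le_gen (by decide +kernel)) (by decide +kernel)
    (fun t ht => ev_mem fun x hx => letter_mem_gen ((by decide +kernel : ∀ t ∈ primT, ∀ x ∈ t.1, x < 6) t ht x hx)) (by decide +kernel)
    (by simp only [primT, List.forall_mem_cons]; exact ⟨prim_0, prim_1, by simp⟩)

def XP : List (List Nat) := [[2, 4, 5, 2, 4, 5, 2, 4, 5, 2, 4, 5, 2, 4, 5, 2, 4, 5, 2, 4, 5]]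

theorem satX : Sat (sig T) XP :=
  sat_of_relsP ok (by norm_num) (show relsP (nat_lit 28) (nat_lit 5) (nat_lit 0) (nat_lit 5) T XP = true by decide +kernel)

theorem simple : IsSimpleGroup G :=
  rep.simple (m := 720) (p := 7) (X := [[2, 4, 5]]) card.2.2 (by norm_num) (by norm_num) trans prim card.2.1 (by norm_num) pres.sat
    Col.index (by decide +kernel) (by decide +kernel) (satX.mono (by decide +kernel))


end Cfsg.Agent.SchurG.A8
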