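import Cfsg.Agent.Comp.TC
import Cfsg.Agent.SchurG.A8.Pres

set_option autoImplicit false
set_option maxRecDepth 100000

namespace Cfsg.Agent.SchurG.A8.Top
open Cfsg.Agent.Comp

noncomputable def t0 : Tr := (Tr.node (nat_lit 0) (Tr.leaf (nat_lit 0x8567fff006429f019806507802218467fff0b78019087825e067815e8563fff00600dd0474064097421d855ffff005c161018c062097021c845bfff018401605681da07681998457fff0180015066c21b056421b6253fff017c05e0764014076c19a644ffff017401302502180760198644bfff0170012045c217075c197614bfff034805b04541150254012604bfff055405a055815600480d64447fff0250011036005905501144347fff024c0580044113064c1534247fff0458057034801101580552543fff0040054014c05204440d10003fff014405001400500240050))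
(Tr.leaf (nat_lit 0x3ffffffffffffffffffffffff0003ffffffffffffffffffffffff0003ffffffffffffffffffffffff0003ffffffffffffffffffffffffc097fff0d9422b11ac3ab0094327c18bfff108832710a426902a4022c08bfff0fa42e511a82aa00880eac383fff0d901e800803a60798324c283fff0b9c36a0f940200dac2a5a37ffff08982e6007c3e80c90228a27ffff0eac329109c01f0b9c06ba277fff0ea03630a8401d0da0366a373fff058c32400704e30b8c2a3a273fff11a83a2128801c01a8069a56ffff006c11c0b90261077c220a56bfff00681a001a0067098419f)))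

noncomputable def T : Tr := t0

def RT : List (List (List Nat)) := [
  [[nat_lit 7],
   [nat_lit 5, nat_lit 1, nat_lit 5],
   [nat_lit 3, nat_lit 1, nat_lit 3],
   [nat_lit 4, nat_lit 2, nat_lit 4, nat_lit 1, nat_lit 4, nat_lit 2, nat_lit 4],
   [nat_lit 4, nat_lit 0, nat_lit 5, nat_lit 4, nat_lit 0, nat_lit 4, nat_lit 5, nat_lit 4],
   [nat_lit 4, nat_lit 0, nat_lit 2, nat_lit 0, nat_lit 4, nat_lit 1, nat_lit 2],
   [nat_lit 1, nat_lit 1],
   [nat_lit 2, nat_lit 1, nat_lit 2, nat_lit 1, nat_lit 2]],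
  [[nat_lit 0, nat_lit 0],
   [nat_lit 4, nat_lit 1, nat_lit 2, nat_lit 1, nat_lit 4, nat_lit 0, nat_lit 2],
   [nat_lit 5, nat_lit 0, nat_lit 5],
   [nat_lit 3, nat_lit 0, nat_lit 3]],
  [[nat_lit 0, nat_lit 2, nat_lit 0, nat_lit 2, nat_lit 0],
   [nat_lit 7],
   [nat_lit 3, nat_lit 2, nat_lit 3, nat_lit 2, nat_lit 3],
   [nat_lit 1, nat_lit 4, nat_lit 0, nat_lit 2, nat_lit 0, nat_lit 4, nat_lit 1],
   [nat_lit 5, nat_lit 0, nat_lit 2, nat_lit 1, nat_lit 5, nat_lit 2, nat_lit 5, nat_lit 0],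
   [nat_lit 1, nat_lit 2, nat_lit 1, nat_lit 2, nat_lit 1]],
  [[nat_lit 4, nat_lit 3, nat_lit 4],
   [nat_lit 7],
   [nat_lit 2, nat_lit 5, nat_lit 0, nat_lit 2, nat_lit 3, nat_lit 2, nat_lit 1, nat_lit 5, nat_lit 2],
   [nat_lit 0, nat_lit 3, nat_lit 0],
   [nat_lit 5, nat_lit 3, nat_lit 5, nat_lit 3, nat_lit 5],
   [nat_lit 2, nat_lit 3, nat_lit 2, nat_lit 3, nat_lit 2],
   [nat_lit 1, nat_lit 3, nat_lit 1]],
  [[nat_lit 5, nat_lit 4, nat_lit 5, nat_lit 4, nat_lit 5],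
   [nat_lit 3, nat_lit 4, nat_lit 3],
   [nat_lit 7],
   [nat_lit 1, nat_lit 2, nat_lit 1, nat_lit 4, nat_lit 0, nat_lit 2, nat_lit 0],
   [nat_lit 1, nat_lit 4, nat_lit 1, nat_lit 4, nat_lit 1, nat_lit 4, nat_lit 1],
   [nat_lit 0, nat_lit 2, nat_lit 0, nat_lit 4, nat_lit 1, nat_lit 2, nat_lit 1]],
  [[nat_lit 0, nat_lit 2, nat_lit 5, nat_lit 0, nat_lit 2, nat_lit 1, nat_lit 5, nat_lit 2],
   [nat_lit 1, nat_lit 5, nat_lit 1],
   [nat_lit 3, nat_lit 5, nat_lit 3, nat_lit 5, nat_lit 3],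
   [nat_lit 4, nat_lit 5, nat_lit 4, nat_lit 5, nat_lit 4],
   [nat_lit 0, nat_lit 2, nat_lit 1, nat_lit 5, nat_lit 2, nat_lit 1, nat_lit 5, nat_lit 2]],
  []]

def HT : List (List (Nat × Nat × Nat)) := [
  [(2, 0, 0), (1, 14, 0), (1, 8, 0), (1, 13, 0), (0, 18, 5), (0, 11, 7), (1, 6, 0), (1, 7, 0)],
  [(0, 6, 0), (0, 11, 3), (0, 14, 1), (0, 8, 1)],
  [(0, 7, 0), (2, 2, 0), (0, 9, 1), (0, 11, 6), (1, 17, 5), (1, 7, 1)],
  [(0, 10, 1), (2, 3, 0), (0, 19, 8), (0, 8, 0), (0, 15, 1), (0, 9, 0), (1, 8, 1)],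
  [(0, 16, 1), (0, 10, 0), (2, 4, 0), (0, 11, 4), (1, 12, 1), (0, 11, 0)],
  [(1, 17, 3), (1, 14, 1), (0, 15, 0), (0, 16, 0), (0, 17, 0)],
  []]

def W : List (List Nat) := [[0],
   [1],
   [2],
   [3],
   [4]]

noncomputable def P : Par := ⟨T, (nat_lit 4), (nat_lit 15), (nat_lit 112), (nat_lit 14), (nat_lit 16383), (nat_lit 6), (nat_lit 63), (nat_lit 6), (nat_lit 44), (nat_lit 48), (nat_lit 0x398a418801), RT⟩

noncomputable def J0 : List Nat := [
  nat_lit 0x10c400011c40011c40012c40130000841008500014048410160008541084000c184894081505284014042840100854001030084017222840130000841300628415052854100006841,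
  nat_lit 0x30002841846028410085580140484d01008500010084000105084d019085c08145284cc10840154184889cc1885e1581041041041041041041041041041041041041041041]

theorem c0 : chk T (nat_lit 4) (nat_lit 15) (nat_lit 112) (nat_lit 14) (nat_lit 16383) (nat_lit 6) (nat_lit 63) (nat_lit 6) (nat_lit 44) (nat_lit 48) (nat_lit 0x398a418801) (nat_lit 4) (nat_lit 15) RT (nat_lit 16) J0 (nat_lit 16) = true := by
  decide +kernel

theorem r0 : P.RowsOK 16 48 := chk_sound P _ _ _ J0 _ _ (by decide +kernel) c0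

theorem index.{u} : IndexLe.{u} 6 A8.R W 28 :=
  indexLe_of_cert P HT (by decide +kernel)
    (show P.RowsOK 16 48 from r0)

end Cfsg.Agent.SchurG.A8.Top
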