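import Cfsg.Agent.SchurG.A8.Pres
import Cfsg.Agent.SchurG.A8.Top

set_option autoImplicit false
set_option maxRecDepth 100000

namespace Cfsg.Agent.SchurG.A8
open Cfsg.Agent.Comp

namespace Tk3

noncomputable def t0 : Tr := (Tr.leaf (nat_lit 0x1ffffffff001ffffffff001ffffffff001ffffffff001ffffffff001ffffffff001ffffffff001ffffffff001ffffffff001ffffffff001ffffffff001ffffffff001ffffffff861ffc28810821ffc08072001ffc19031))

noncomputable def T : Tr := t0

def RT : List (List (List Nat)) := [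
  [],
  [[nat_lit 0, nat_lit 0]],
  []]

def HT : List (List (Nat × Nat × Nat)) := [
  [],
  [(0, 2, 0)],
  []]

def R : List (List Nat) :=
  [[0, 1],
   [1, 0],
   [0, 0, 0]]

def W : List (List Nat) := []

noncomputable def P : Par := ⟨T, (nat_lit 4), (nat_lit 15), (nat_lit 44), (nat_lit 11), (nat_lit 2047), (nat_lit 5), (nat_lit 31), (nat_lit 2), (nat_lit 19), (nat_lit 32), (nat_lit 0x18801), RT⟩

noncomputable def J0 : List Nat := [
  nat_lit 0x124661111111111111111111111111111111111111111]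

theorem c0 : chk T (nat_lit 4) (nat_lit 15) (nat_lit 44) (nat_lit 11) (nat_lit 2047) (nat_lit 5) (nat_lit 31) (nat_lit 2) (nat_lit 19) (nat_lit 32) (nat_lit 0x18801) (nat_lit 2) (nat_lit 3) RT (nat_lit 16) J0 (nat_lit 16) = true := by
  decide +kernel

theorem r0 : P.RowsOK 16 32 := chk_sound P _ _ _ J0 _ _ (by decide +kernel) c0

theorem index.{u} : IndexLe.{u} 2 R W 3 :=
  indexLe_of_cert P HT (by decide +kernel)
    (show P.RowsOK 16 32 from r0)

end Tk3

theorem upK_3 : CardLe (genW s [[0], [1]]) 3 :=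
  CardLe.tc (V' := []) (n := 3) (m := 1) [0, 1] Tk3.index pres.sat (by decide +kernel) (by decide +kernel) (by decide +kernel) (cardLe_nil s)

namespace Tk2

noncomputable def t0 : Tr := (Tr.leaf (nat_lit 0xffffffffffff000ffffffffffff000ffffffffffff000ffffffffffff000ffffffffffff000ffffffffffff000ffffffffffff000ffffffffffff000ffffffffffff000ffffffffffff000ffffffffffff000ffffffffffff831fff052052011811fff073011073450fff010033032000fff031050030))

noncomputable def T : Tr := t0

def RT : List (List (List Nat)) := [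
  [[nat_lit 4]],
  [[nat_lit 0, nat_lit 0]],
  [[nat_lit 0, nat_lit 2, nat_lit 0, nat_lit 2, nat_lit 0]],
  []]

def HT : List (List (Nat × Nat × Nat)) := [
  [(2, 0, 0)],
  [(0, 3, 0)],
  [(0, 4, 0)],
  []]

def R : List (List Nat) :=
  [[0, 1],
   [1, 0],
   [2, 2],
   [0, 0, 0],
   [0, 2, 0, 2, 0, 2]]

def W : List (List Nat) := [[0],
   [1]]

noncomputable def P : Par := ⟨T, (nat_lit 4), (nat_lit 15), (nat_lit 60), (nat_lit 12), (nat_lit 4095), (nat_lit 5), (nat_lit 31), (nat_lit 3), (nat_lit 20), (nat_lit 32), (nat_lit 0x418801), RT⟩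

noncomputable def J0 : List Nat := [
  nat_lit 0x4d010912419a1111111111111111111111111111111111111111111111111]

theorem c0 : chk T (nat_lit 4) (nat_lit 15) (nat_lit 60) (nat_lit 12) (nat_lit 4095) (nat_lit 5) (nat_lit 31) (nat_lit 3) (nat_lit 20) (nat_lit 32) (nat_lit 0x418801) (nat_lit 2) (nat_lit 3) RT (nat_lit 16) J0 (nat_lit 16) = true := by
  decide +kernel

theorem r0 : P.RowsOK 16 32 := chk_sound P _ _ _ J0 _ _ (by decide +kernel) c0

theorem index.{u} : IndexLe.{u} 3 R W 4 :=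
  indexLe_of_cert P HT (by decide +kernel)
    (show P.RowsOK 16 32 from r0)

end Tk2

theorem upK_2 : CardLe (genW s [[0], [1], [2]]) 12 :=
  CardLe.tc (V' := [[0], [1]]) (n := 4) (m := 3) [0, 1, 2] Tk2.index pres.sat (by decide +kernel) (by decide +kernel) (by decide +kernel) upK_3

namespace Tk1

noncomputable def t0 : Tr := (Tr.leaf (nat_lit 0xfffffffffffffff000fffffffffffffff000fffffffffffffff000fffffffffffffff000fffffffffffffff000fffffffffffffff000fffffffffffffff000fffffffffffffff000fffffffffffffff000fffffffffffffff000fffffffffffffffc32fff073093053012c12fff0940b4012074851fff052011034033470fff010032091071000fff031030050030))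

noncomputable def T : Tr := t0

def RT : List (List (List Nat)) := [
  [[nat_lit 5],
   [nat_lit 3, nat_lit 1, nat_lit 3]],
  [[nat_lit 0, nat_lit 0]],
  [[nat_lit 0, nat_lit 2, nat_lit 0, nat_lit 2, nat_lit 0],
   [nat_lit 5]],
  [[nat_lit 2, nat_lit 3, nat_lit 2, nat_lit 3, nat_lit 2],
   [nat_lit 0, nat_lit 3, nat_lit 0]],
  []]

def HT : List (List (Nat × Nat × Nat)) := [
  [(2, 0, 0), (1, 6, 0)],
  [(0, 4, 0)],
  [(0, 5, 0), (2, 2, 0)],
  [(0, 7, 0), (0, 6, 0)],
  []]

def R : List (List Nat) :=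
  [[0, 1],
   [1, 0],
   [2, 2],
   [3, 3],
   [0, 0, 0],
   [0, 2, 0, 2, 0, 2],
   [0, 3, 0, 3],
   [2, 3, 2, 3, 2, 3]]

def W : List (List Nat) := [[0],
   [1],
   [2]]

noncomputable def P : Par := ⟨T, (nat_lit 4), (nat_lit 15), (nat_lit 72), (nat_lit 12), (nat_lit 4095), (nat_lit 5), (nat_lit 31), (nat_lit 4), (nat_lit 21), (nat_lit 32), (nat_lit 0xa418801), RT⟩

noncomputable def J0 : List Nat := [
  nat_lit 0x4d0001741c24426124066b11111111111111111111111111111111111111111111111111111111]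

theorem c0 : chk T (nat_lit 4) (nat_lit 15) (nat_lit 72) (nat_lit 12) (nat_lit 4095) (nat_lit 5) (nat_lit 31) (nat_lit 4) (nat_lit 21) (nat_lit 32) (nat_lit 0xa418801) (nat_lit 2) (nat_lit 3) RT (nat_lit 16) J0 (nat_lit 16) = true := by
  decide +kernel

theorem r0 : P.RowsOK 16 32 := chk_sound P _ _ _ J0 _ _ (by decide +kernel) c0

theorem index.{u} : IndexLe.{u} 4 R W 5 :=
  indexLe_of_cert P HT (by decide +kernel)
    (show P.RowsOK 16 32 from r0)

end Tk1

theorem upK_1 : CardLe (genW s [[0], [1], [2], [3]]) 60 :=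
  CardLe.tc (V' := [[0], [1], [2]]) (n := 5) (m := 12) [0, 1, 2, 3] Tk1.index pres.sat (by decide +kernel) (by decide +kernel) (by decide +kernel) upK_2

namespace Tk0

noncomputable def t0 : Tr := (Tr.leaf (nat_lit 0x7ffffffffffffffffffe000fffffffffffffffffffc001fffffffffffffffffff8003fffffffffffffffffffa4cfffc0320fb06d836c177097fff805c0b011a06d02ea06bfff01d83641b009600ab253ffe01403d03e413007863a7ffc07401403b83dc1aec93fff804c12a05502a82e5925fff00902d80ec03903b2147ffe03801b8044168094418fffc06c0720390148022811fff80d412609300881cc921fff00801440680330190003ffe03101800c00a0030))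

noncomputable def T : Tr := t0

def RT : List (List (List Nat)) := [
  [[nat_lit 6],
   [nat_lit 4, nat_lit 2, nat_lit 4, nat_lit 1, nat_lit 4, nat_lit 2, nat_lit 4],
   [nat_lit 3, nat_lit 1, nat_lit 3],
   [nat_lit 4, nat_lit 1, nat_lit 4, nat_lit 1, nat_lit 4, nat_lit 1, nat_lit 4],
   [nat_lit 2, nat_lit 1, nat_lit 2, nat_lit 1, nat_lit 2]],
  [[nat_lit 0, nat_lit 0],
   [nat_lit 4, nat_lit 0, nat_lit 4, nat_lit 0, nat_lit 4, nat_lit 0, nat_lit 4]],
  [[nat_lit 6],
   [nat_lit 0, nat_lit 4, nat_lit 1, nat_lit 2, nat_lit 1, nat_lit 4, nat_lit 0],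
   [nat_lit 4, nat_lit 0, nat_lit 4, nat_lit 2, nat_lit 4, nat_lit 0, nat_lit 4],
   [nat_lit 3, nat_lit 2, nat_lit 3, nat_lit 2, nat_lit 3]],
  [[nat_lit 4, nat_lit 3, nat_lit 4],
   [nat_lit 6],
   [nat_lit 0, nat_lit 3, nat_lit 0]],
  [],
  []]

def HT : List (List (Nat × Nat × Nat)) := [
  [(2, 0, 0), (1, 12, 0), (1, 7, 0), (1, 11, 0), (1, 6, 0)],
  [(0, 5, 0), (0, 11, 1)],
  [(2, 2, 0), (0, 10, 2), (0, 12, 3), (0, 8, 1)],
  [(0, 9, 1), (2, 3, 0), (0, 7, 0)],
  [],
  []]

def R : List (List Nat) :=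
  [[0, 1],
   [1, 0],
   [2, 2],
   [3, 3],
   [4, 4],
   [0, 0, 0],
   [0, 2, 0, 2, 0, 2],
   [0, 3, 0, 3],
   [2, 3, 2, 3, 2, 3],
   [3, 4, 3, 4],
   [0, 2, 0, 4, 1, 2, 1, 4],
   [0, 4, 0, 4, 0, 4, 0, 4],
   [0, 4, 2, 4, 0, 4, 2, 4]]

def W : List (List Nat) := [[0],
   [1],
   [2],
   [3]]

noncomputable def P : Par := ⟨T, (nat_lit 4), (nat_lit 15), (nat_lit 91), (nat_lit 13), (nat_lit 8191), (nat_lit 5), (nat_lit 31), (nat_lit 5), (nat_lit 28), (nat_lit 32), (nat_lit 0x18a418801), RT⟩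

noncomputable def J0 : List Nat := [
  nat_lit 0x2320001190004e40400a2111000629c01c22004002210e28860b10160088629c0182a88688a21084210842108421084210842108421]

theorem c0 : chk T (nat_lit 4) (nat_lit 15) (nat_lit 91) (nat_lit 13) (nat_lit 8191) (nat_lit 5) (nat_lit 31) (nat_lit 5) (nat_lit 28) (nat_lit 32) (nat_lit 0x18a418801) (nat_lit 3) (nat_lit 7) RT (nat_lit 16) J0 (nat_lit 16) = true := by
  decide +kernel

theorem r0 : P.RowsOK 16 32 := chk_sound P _ _ _ J0 _ _ (by decide +kernel) c0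

theorem index.{u} : IndexLe.{u} 5 R W 12 :=
  indexLe_of_cert P HT (by decide +kernel)
    (show P.RowsOK 16 32 from r0)

end Tk0

theorem upK : CardLe (genW s [[0], [1], [2], [3], [4]]) 720 :=
  CardLe.tc (V' := [[0], [1], [2], [3]]) (n := 12) (m := 60) [0, 1, 2, 3, 4] Tk0.index pres.sat (by decide +kernel) (by decide +kernel) (by decide +kernel) upK_1

theorem up : CardLe (gen s 6) 20160 := upK.step (Top.index _ s pres.sat)

end Cfsg.Agent.SchurG.A8
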